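import Mathlib

/-! Matrices of minors and the ideal of the stabiliser of a coordinate subspace. -/

set_option autoImplicit false
universe u v

open Matrix

namespace Groth.Agent.H8Props.LineStab

variable {A : Type u} [CommRing A] {I : Type v} [LinearOrder I] [Fintype I] (n : ℕ)

/-- The increasing enumeration of a subset. -/
noncomputable def emb (S : Set.powersetCard I n) : Fin n ↪o I := Set.powersetCard.ofFinEmbEquiv.symm S

/-- The matrix of `n`-minors. -/
noncomputable def comp (P : Matrix I I A) : Matrix (Set.powersetCard I n) (Set.powersetCard I n) A :=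
  Matrix.of fun S T => (Matrix.of fun i j => P (emb n S i) (emb n T j)).det

theorem comp_apply (P : Matrix I I A) (S T : Set.powersetCard I n) :
    comp n P S T = (Matrix.of fun i j => P (emb n S i) (emb n T j)).det := rfl

theorem toMatrix_map [DecidableEq (Set.powersetCard I n)] (P : Matrix I I A) :
    LinearMap.toMatrix ((Pi.basisFun A I).exteriorPower n) ((Pi.basisFun A I).exteriorPower n)
      (exteriorPower.map n (Matrix.toLin (Pi.basisFun A I) (Pi.basisFun A I) P)) = comp n P := by
  ext S T
  rw [LinearMap.toMatrix_apply, exteriorPower.basis_apply, exteriorPower.map_apply_ιMulti_family,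
    exteriorPower.basis_repr_apply]
  show exteriorPower.ιMultiDual A n _ S (exteriorPower.ιMulti A n _) = _
  rw [exteriorPower.ιMultiDual_apply_ιMulti, comp_apply, ← det_transpose]
  congr 1
  ext i j
  simp [emb, Matrix.toLin_apply, Pi.single_apply]
  change (P *ᵥ Pi.single _ (1 : A)) _ = _
  simp

theorem comp_mul (P Q : Matrix I I A) : comp n (P * Q) = comp n P * comp n Q := by
  classical
  let b := (Pi.basisFun A I).exteriorPower n
  rw [← toMatrix_map, ← toMatrix_map, ← toMatrix_map,
    Matrix.toLin_mul (Pi.basisFun A I) (Pi.basisFun A I) (Pi.basisFun A I), exteriorPower.map_comp,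
    LinearMap.toMatrix_comp b b b]

theorem comp_one [DecidableEq (Set.powersetCard I n)] : comp n (1 : Matrix I I A) = 1 := by
  rw [← toMatrix_map, Matrix.toLin_one, exteriorPower.map_id, LinearMap.toMatrix_id]

theorem comp_map {C : Type*} [CommRing C] (f : A →+* C) (P : Matrix I I A) :
    comp n (P.map f) = (comp n P).map f := by
  ext S T
  rw [Matrix.map_apply, comp_apply, comp_apply, RingHom.map_det]
  rfl

variable {s q : ℕ}

/-- The first `s` indices. -/
noncomputable def first (s q : ℕ) : Set.powersetCard (Fin (s + q)) s :=
  Set.powersetCard.ofFinEmbEquiv (Fin.castAddOrderEmb q)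

theorem emb_first (j : Fin s) : emb s (first s q) j = Fin.castAdd q j := by
  simp [emb, first]

/-- The lower left block vanishes when all off-diagonal minors in the first column do. -/
theorem lower_eq_zero (P : Matrix (Fin (s + q)) (Fin (s + q)) A) (hP : IsUnit (comp s P).det)
    (h : ∀ S, S ≠ first s q → comp s P S (first s q) = 0) (i : Fin q) (j : Fin s) :
    P (Fin.natAdd s i) (Fin.castAdd q j) = 0 := by
  classical
  let M : Matrix (Fin s) (Fin s) A := Matrix.of fun a b => P (Fin.castAdd q a) (Fin.castAdd q b)
  have hD : comp s P (first s q) (first s q) = M.det := by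
    rw [comp_apply]; congr 1; ext a b; simp [M, emb_first]
  have hu : IsUnit M.det := by
    refine IsUnit.of_mul_eq_one_right ((hP.unit⁻¹ : Aˣ) * (comp s P).adjugate (first s q) (first s q)) ?_
    have h1 := congr_fun (congr_fun (adjugate_mul (comp s P)) (first s q)) (first s q)
    rw [Matrix.mul_apply, Finset.sum_eq_single (first s q) (fun S _ hS => by rw [h S hS, mul_zero])
      (fun h' => absurd (Finset.mem_univ _) h'), hD] at h1
    rw [mul_assoc, h1]
    simp [IsUnit.val_inv_mul hP]
  let row : Fin s → A := fun b => P (Fin.natAdd s i) (Fin.castAdd q b)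
  have hrow : row ᵥ* M.adjugate = 0 := by
    funext l
    have hzero : (M.updateRow l row).det = 0 := by
      let ρ : Fin s → Fin (s + q) := Function.update (Fin.castAdd q) l (Fin.natAdd s i)
      have hρ : Function.Injective ρ := by
        intro a b hab
        by_cases ha : a = l <;> by_cases hb : b = l <;>
          simp [ρ, ha, hb, Function.update, Fin.ext_iff] at hab ⊢ <;> omega
      let S : Set.powersetCard (Fin (s + q)) s :=
        ⟨Finset.univ.image ρ, by simp [Finset.card_image_of_injective _ hρ]⟩
      have hS : S ≠ first s q := fun e => by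
        have : ρ l ∈ Set.range (emb s (first s q)) := by
          rw [emb, Set.powersetCard.mem_range_ofFinEmbEquiv_symm_iff_mem, ← e]
          exact Finset.mem_image_of_mem ρ (Finset.mem_univ l)
        obtain ⟨a, ha⟩ := this
        simp [emb_first, ρ, Fin.ext_iff] at ha
        omega
      have hσ : ∀ a, ∃ b, emb s S b = ρ a := fun a => by
        show ρ a ∈ Set.range (emb s S)
        rw [emb, Set.powersetCard.mem_range_ofFinEmbEquiv_symm_iff_mem]
        exact Finset.mem_image_of_mem ρ (Finset.mem_univ a)
      choose σ hσ using hσ
      have hσi : Function.Injective σ := fun a b hab => hρ (by rw [← hσ, hab, hσ])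
      let π : Equiv.Perm (Fin s) := Equiv.ofBijective σ (Finite.injective_iff_bijective.1 hσi)
      have e : M.updateRow l row = (Matrix.of fun a b => P (emb s S a) (emb s (first s q) b)).submatrix π id := by
        ext a b
        simp only [Matrix.submatrix_apply, Matrix.of_apply, id, emb_first]
        show _ = P (emb s S (σ a)) _
        rw [hσ]
        by_cases ha : a = l <;> simp [ha, ρ, M, row, Matrix.updateRow_apply]
      rw [e, Matrix.det_permute, ← comp_apply, h S hS, mul_zero]
    rw [← M.cramer_transpose_apply row l] at hzero
    rw [← Matrix.mulVec_transpose, Matrix.adjugate_transpose, ← Matrix.cramer_eq_adjugate_mulVec]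
    exact hzero
  have h2 : row ᵥ* (M.adjugate * M) = 0 := by rw [← Matrix.vecMul_vecMul, hrow, Matrix.zero_vecMul]
  rw [Matrix.adjugate_mul, Matrix.vecMul_smul, Matrix.vecMul_one] at h2
  exact hu.mul_right_eq_zero.1 (by simpa [row] using congr_fun h2 j)

end Groth.Agent.H8Props.LineStab
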