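import Mathlib

/-! Corepresentations on finite submodules of a flat Hopf algebra over a Noetherian ring. -/

set_option autoImplicit false
universe u v w

open TensorProduct

namespace Groth.Agent.H8Props.LineStab

variable {R : Type u} [CommRing R] {A : Type v} [CommRing A] [Bialgebra R A] [Module.Flat R A]

/-- Every finite subset lies in a finite right subcomodule. -/
theorem exists_subcomod [IsNoetherianRing R] (s : Finset A) :
    ∃ W : Submodule R A, W.FG ∧ (s : Set A) ⊆ W ∧
      ∀ w ∈ W, CoalgebraStruct.comul (R := R) w ∈ LinearMap.range (LinearMap.rTensor A W.subtype) := by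
  classical
  let Δ : A →ₗ[R] A ⊗[R] A := CoalgebraStruct.comul
  have hfin : ∀ x : A ⊗[R] A, ∃ M : Submodule R A, M.FG ∧ x ∈ LinearMap.range (LinearMap.rTensor A M.subtype) := by
    intro x
    induction x using TensorProduct.induction_on with
    | zero => exact ⟨⊥, Submodule.fg_bot, zero_mem _⟩
    | tmul a b => exact ⟨R ∙ a, Submodule.fg_span_singleton a, ⟨⟨a, Submodule.mem_span_singleton_self a⟩ ⊗ₜ b, rfl⟩⟩
    | add x y hx hy =>
      obtain ⟨M, hM, hxM⟩ := hx
      obtain ⟨M', hM', hyM⟩ := hy
      have mono : ∀ (N : Submodule R A), N ≤ M ⊔ M' → LinearMap.range (LinearMap.rTensor A N.subtype) ≤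
          LinearMap.range (LinearMap.rTensor A (M ⊔ M').subtype) := fun N h => by
        rw [← Submodule.subtype_comp_inclusion _ _ h, LinearMap.rTensor_comp]
        exact LinearMap.range_comp_le_range _ _
      exact ⟨_, hM.sup hM', add_mem (mono M le_sup_left hxM) (mono M' le_sup_right hyM)⟩
  choose F hF hmem using hfin
  let M : Submodule R A := s.sup fun a => F (Δ a)
  have hM : M.FG := by
    exact Finset.sup_induction Submodule.fg_bot (fun _ h _ h' => h.sup h') fun a _ => hF (Δ a)
  let V : Submodule R (A ⊗[R] A) := LinearMap.range (LinearMap.rTensor A M.subtype)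
  haveI : Module.Finite R M := Module.Finite.iff_fg.2 hM
  let q := V.mkQ ∘ₗ Δ
  let W : Submodule R A := M ⊓ LinearMap.ker q
  have hsM : ∀ a ∈ s, Δ a ∈ V := fun a ha => by
    have hle : F (Δ a) ≤ M := Finset.le_sup (f := fun a => F (Δ a)) ha
    obtain ⟨y, hy⟩ := hmem (Δ a)
    exact ⟨(Submodule.inclusion hle).rTensor A y, by
      rw [← LinearMap.comp_apply, ← LinearMap.rTensor_comp, Submodule.subtype_comp_inclusion]; exact hy⟩
  have hker : ∀ w, w ∈ LinearMap.ker q ↔ Δ w ∈ V := fun w => by simp [q]
  have hmemM : ∀ w, Δ w ∈ V → w ∈ M := fun w ⟨y, hy⟩ => by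
    have h := congrArg (TensorProduct.rid R A) (Coalgebra.lTensor_counit_comul (R := R) w)
    change TensorProduct.rid R A (LinearMap.lTensor A CoalgebraStruct.counit (Δ w)) = _ at h
    rw [← hy] at h
    simp only [TensorProduct.rid_tmul, one_smul] at h
    rw [← h]
    have key : ∀ z : M ⊗[R] A, TensorProduct.rid R A (LinearMap.lTensor A CoalgebraStruct.counit (LinearMap.rTensor A M.subtype z)) ∈ M := fun z => by
      induction z using TensorProduct.induction_on with
      | zero => simp
      | tmul m a => simpa using M.smul_mem _ m.2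
      | add x y hx hy => simp only [map_add]; exact add_mem hx hy
    exact key y
  refine ⟨W, isNoetherian_submodule.1 (isNoetherian_of_isNoetherianRing_of_finite R M) W inf_le_left,
    fun a ha => ⟨hmemM a (hsM a ha), (hker a).2 (hsM a ha)⟩, fun w hw => ?_⟩
  have hWker : W = LinearMap.ker q := le_antisymm inf_le_right fun w hw => ⟨hmemM w ((hker w).1 hw), hw⟩
  have hex : Function.Exact (LinearMap.rTensor A W.subtype) (LinearMap.rTensor A q) := by
    rw [hWker]
    exact Module.Flat.rTensor_exact A q.exact_subtype_ker_map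
  refine (hex _).1 ?_
  obtain ⟨y, hy⟩ := (hker w).1 hw.2
  show LinearMap.rTensor A (V.mkQ ∘ₗ Δ) (Δ w) = 0
  have hc := congrArg (TensorProduct.assoc R A A A).symm (Coalgebra.coassoc_apply (R := R) w)
  rw [LinearEquiv.symm_apply_apply] at hc
  rw [LinearMap.rTensor_comp, LinearMap.comp_apply, hc, ← hy]
  have h0 : ∀ (m : M) (b : A), V.mkQ ((m : A) ⊗ₜ[R] b) = 0 := fun m b =>
    (Submodule.Quotient.mk_eq_zero V).2 ⟨m ⊗ₜ b, rfl⟩
  clear hy hc
  induction y using TensorProduct.induction_on with
  | zero => simp
  | tmul m a =>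
    rw [LinearMap.rTensor_tmul, LinearMap.lTensor_tmul, Submodule.subtype_apply]
    induction CoalgebraStruct.comul (R := R) a using TensorProduct.induction_on with
    | zero => simp
    | tmul b c => rw [TensorProduct.assoc_symm_tmul, LinearMap.rTensor_tmul, h0, TensorProduct.zero_tmul]
    | add x y hx hy => simp only [TensorProduct.tmul_add, map_add, hx, hy, add_zero]
  | add x y hx hy => simp only [map_add, hx, hy, add_zero]

variable {ι : Type w} [Fintype ι] {W : Submodule R A} (b : Module.Basis ι R W) {X : Type*} [AddCommGroup X] [Module R X]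

theorem exists_sum_eq {X : Type*} [AddCommGroup X] [Module R X] (y : W ⊗[R] X) :
    ∃ c : ι → X, y = ∑ i, b i ⊗ₜ[R] c i := by
  induction y using TensorProduct.induction_on with
  | zero => exact ⟨0, by simp⟩
  | tmul w x =>
    refine ⟨fun i => b.repr w i • x, ?_⟩
    simp_rw [← TensorProduct.smul_tmul, ← TensorProduct.sum_tmul, b.sum_repr]
  | add x y hx hy =>
    obtain ⟨c, rfl⟩ := hx
    obtain ⟨d, rfl⟩ := hy
    exact ⟨c + d, by simp [TensorProduct.tmul_add, Finset.sum_add_distrib]⟩

/-- Coefficients along a basis are unique. -/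
theorem coeff_eq_zero [Module.Flat R X] {c : ι → X} (h : ∑ i, ((b i : A)) ⊗ₜ[R] c i = 0) (i : ι) : c i = 0 := by
  classical
  have hinj := Module.Flat.rTensor_preserves_injective_linearMap (M := X) W.subtype W.injective_subtype
  have h' : ∑ i, b i ⊗ₜ[R] c i = 0 := hinj (by simpa using h)
  simpa [Finsupp.single_apply] using congrArg (fun t => TensorProduct.lid R X (LinearMap.rTensor X (b.coord i) t)) h'

/-- A basis of a subcomodule has a matrix of coefficients. -/
theorem exists_coeff (hW : ∀ w ∈ W, CoalgebraStruct.comul (R := R) w ∈ LinearMap.range (LinearMap.rTensor A W.subtype)) :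
    ∃ c : Matrix ι ι A,
      (∀ j, CoalgebraStruct.comul (R := R) (b j : A) = ∑ i, (b i : A) ⊗ₜ[R] c i j) ∧
      (∀ i j, CoalgebraStruct.comul (R := R) (c i j) = ∑ l, c i l ⊗ₜ[R] c l j) ∧
      (∀ [DecidableEq ι] i j, CoalgebraStruct.counit (R := R) (c i j) = if i = j then 1 else 0) ∧
      ∀ j, (b j : A) = ∑ i, CoalgebraStruct.counit (R := R) (b i : A) • c i j := by
  classical
  have h1 : ∀ j, ∃ c : ι → A, CoalgebraStruct.comul (R := R) (b j : A) = ∑ i, (b i : A) ⊗ₜ[R] c i := fun j => by
    obtain ⟨y, hy⟩ := hW _ (b j).2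
    obtain ⟨c, rfl⟩ := exists_sum_eq b y
    exact ⟨c, by rw [← hy]; simp⟩
  choose c hc using h1
  refine ⟨Matrix.of fun i j => c j i, hc, fun i j => ?_, fun {hd} i j => ?_, fun j => ?_⟩
  · have hco := Coalgebra.coassoc_apply (R := R) (b j : A)
    rw [hc j] at hco
    simp only [map_sum, LinearMap.rTensor_tmul, LinearMap.lTensor_tmul, hc, TensorProduct.sum_tmul,
      TensorProduct.assoc_tmul] at hco
    rw [Finset.sum_comm] at hco
    simp_rw [← TensorProduct.tmul_sum] at hco
    exact (sub_eq_zero.1 (coeff_eq_zero b (c := fun i => (∑ l, c l i ⊗ₜ[R] c j l) - CoalgebraStruct.comul (R := R) (c j i))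
      (by simp [TensorProduct.tmul_sub, Finset.sum_sub_distrib, hco]) i)).symm
  · have h := congrArg (TensorProduct.rid R A) (Coalgebra.lTensor_counit_comul (R := R) (b j : A))
    rw [hc j] at h
    simp only [map_sum, LinearMap.lTensor_tmul, TensorProduct.rid_tmul, one_smul] at h
    have h' : ∑ i, CoalgebraStruct.counit (R := R) (c j i) • b i = b j := Subtype.ext (by simpa using h)
    have := congrArg (fun t => b.repr t i) h'
    simpa [Finsupp.single_apply, eq_comm] using this
  · have h := congrArg (TensorProduct.lid R A) (Coalgebra.rTensor_counit_comul (R := R) (b j : A))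
    rw [hc j] at h
    simp only [map_sum, LinearMap.rTensor_tmul, TensorProduct.lid_tmul, one_smul] at h
    exact h.symm

end Groth.Agent.H8Props.LineStab
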