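import Groth.Agent.H8Props.LineStab.Compound
import Groth.Agent.H8Props.LineStab.Corep

/-! Closed subgroups of flat affine groups over a PID are stabilisers of lines. -/

set_option autoImplicit false
universe u v

open TensorProduct

namespace Groth.Agent.H8Props.LineStab

variable {R : Type u} [CommRing R]

/-- The conditions for a corepresentation matrix, as identities of matrices. -/
theorem matrix_iff {A : Type v} [CommRing A] [Bialgebra R A] {κ : Type*} [Fintype κ] [DecidableEq κ] (a : Matrix κ κ A) :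
    ((∀ i j, CoalgebraStruct.comul (R := R) (a i j) = ∑ l, a i l ⊗ₜ[R] a l j) ↔
      a.map (Bialgebra.comulAlgHom R A).toRingHom =
        a.map (Algebra.TensorProduct.includeLeft : A →ₐ[R] A ⊗[R] A).toRingHom *
          a.map (Algebra.TensorProduct.includeRight : A →ₐ[R] A ⊗[R] A).toRingHom) ∧
    ((∀ i j, CoalgebraStruct.counit (R := R) (a i j) = if i = j then 1 else 0) ↔
      a.map (Bialgebra.counitAlgHom R A).toRingHom = 1) := by
  constructor
  · refine ⟨fun h => ?_, fun h i j => ?_⟩
    · ext i j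
      simp [Matrix.mul_apply, h, Algebra.TensorProduct.tmul_mul_tmul]
    · have := congr_fun (congr_fun h i) j
      simpa [Matrix.mul_apply, Algebra.TensorProduct.tmul_mul_tmul] using this
  · refine ⟨fun h => ?_, fun h i j => ?_⟩
    · ext i j
      simp [Matrix.one_apply, h]
    · have := congr_fun (congr_fun h i) j
      simpa [Matrix.one_apply] using this

variable {A : Type v} [CommRing A] [HopfAlgebra R A]

theorem isUnit_det_of_corep {κ : Type*} [Fintype κ] [DecidableEq κ] (a : Matrix κ κ A)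
    (hc : ∀ i j, CoalgebraStruct.comul (R := R) (a i j) = ∑ l, a i l ⊗ₜ[R] a l j)
    (he : ∀ i j, CoalgebraStruct.counit (R := R) (a i j) = if i = j then 1 else 0) : IsUnit a.det := by
  have h : a.map (HopfAlgebraStruct.antipode R (A := A)) * a = 1 := by
    ext i j
    have h := HopfAlgebra.mul_antipode_rTensor_comul_apply (R := R) (a i j)
    rw [hc, he] at h
    simp only [map_sum, LinearMap.rTensor_tmul, LinearMap.mul'_apply] at h
    simp only [Matrix.mul_apply, Matrix.map_apply, h, Matrix.one_apply]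
    split_ifs <;> simp
  exact IsUnit.of_mul_eq_one_right _ (by rw [← Matrix.det_mul, h, Matrix.det_one])

theorem exists_corep_ker_eq_column [IsDomain R] [IsPrincipalIdealRing R] [Module.Flat R A] [Algebra.FiniteType R A]
    {B : Type*} [CommRing B] [Bialgebra R B] [Module.Flat R B] (π : A →ₐc[R] B) :
    ∃ (d : ℕ) (hd : 0 < d) (a : Matrix (Fin d) (Fin d) A),
      (∀ i j, CoalgebraStruct.comul (R := R) (a i j) = ∑ l, a i l ⊗ₜ[R] a l j) ∧
      (∀ i j, CoalgebraStruct.counit (R := R) (a i j) = if i = j then 1 else 0) ∧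
      (∃ u : A, u * a.det = 1 ∧
        Algebra.adjoin R (Set.range (fun p : Fin d × Fin d => a p.1 p.2) ∪ {u}) = ⊤) ∧
      RingHom.ker π = Ideal.span (Set.range (fun i : {i : Fin d // i ≠ ⟨0, hd⟩} => a i.1 ⟨0, hd⟩)) := by
  classical
  haveI : IsNoetherianRing A := Algebra.FiniteType.isNoetherianRing R A
  obtain ⟨sgen, hgen⟩ := Algebra.FiniteType.out (R := R) (A := A)
  obtain ⟨tI, htI⟩ := (IsNoetherian.noetherian (RingHom.ker π) : (RingHom.ker π).FG)
  obtain ⟨W, hWfg, hsW, hW⟩ := exists_subcomod (R := R) (sgen ∪ tI)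
  haveI : Module.Finite R W := Module.Finite.iff_fg.2 hWfg
  let p : W →ₗ[R] B := (π : A →ₐ[R] B).toLinearMap ∘ₗ W.subtype
  let L : Submodule R W := LinearMap.ker p
  haveI : Module.IsTorsionFree R B := inferInstance
  haveI : Module.IsTorsionFree R A := inferInstance
  haveI : Module.IsTorsionFree R (LinearMap.range p) := inferInstance
  haveI : Module.IsTorsionFree R W := inferInstance
  haveI : Module.Finite R L := inferInstance
  haveI : Module.Free R (LinearMap.range p) := Module.free_of_finite_type_torsion_free'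
  haveI : Module.IsTorsionFree R L := inferInstance
  haveI : Module.Free R L := by
    letI : AddCommGroup L := Submodule.addCommGroup L
    exact @Module.free_of_finite_type_torsion_free' R _ L _ _ _ _ _ _
  obtain ⟨sec, hsec⟩ := Module.projective_lifting_property p.rangeRestrict LinearMap.id p.surjective_rangeRestrict
  have hsec' : ∀ y, p (sec y) = y := fun y => congrArg Subtype.val (LinearMap.congr_fun hsec y)
  let e : W ≃ₗ[R] L × LinearMap.range p :=
    { toFun := fun w => (⟨w - sec (p.rangeRestrict w), by simp [L, hsec']⟩, p.rangeRestrict w)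
      invFun := fun z => z.1 + sec z.2
      map_add' := fun x y => by ext <;> simp; abel
      map_smul' := fun c x => by ext <;> simp [smul_sub]
      left_inv := fun w => by simp
      right_inv := fun z => by
        have h1 : p (z.1 : W) = 0 := z.1.2
        have h2 : p.rangeRestrict (z.1 + sec z.2) = z.2 := Subtype.ext (by simp [h1, hsec'])
        ext <;> simp [h1, hsec', h2] }
  obtain ⟨s, bL⟩ : Σ n, Module.Basis (Fin n) R L := ⟨_, Module.finBasis R L⟩
  obtain ⟨q, bQ⟩ : Σ n, Module.Basis (Fin n) R (LinearMap.range p) := ⟨_, Module.finBasis R _⟩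
  let b : Module.Basis (Fin (s + q)) R W := ((bL.prod bQ).map e.symm).reindex finSumFinEquiv
  have hbL : ∀ j, b (Fin.castAdd q j) = bL j := fun j => by simp [b, e]
  have hbQ : ∀ i, π (b (Fin.natAdd s i) : A) = (bQ i : B) := fun i => by
    show p (b (Fin.natAdd s i)) = _
    simp [b, e, hsec']
  obtain ⟨c, hΔ, hcc, hce, hw⟩ := exists_coeff b hW
  have hce' := fun i j => hce i j
  -- the ideal of the subgroup
  have hπL : ∀ j, π (b (Fin.castAdd q j) : A) = 0 := fun j => by rw [hbL]; exact (bL j).2
  have hker0 : ∀ x : A, π x = 0 → CoalgebraStruct.counit (R := R) x = 0 := fun x hx => by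
    rw [← CoalgHomClass.counit_comp_apply π x, hx, map_zero]
  have hin : ∀ i j, π (c (Fin.natAdd s i) (Fin.castAdd q j)) = 0 := fun i j => by
    have h := CoalgHomClass.map_comp_comul_apply π (b (Fin.castAdd q j) : A)
    rw [hπL, map_zero, hΔ, map_sum, Fin.sum_univ_add] at h
    simp only [TensorProduct.map_tmul] at h
    simp only [show ∀ j, (π : A →ₗ[R] B) (b (Fin.castAdd q j) : A) = 0 from hπL,
      show ∀ i, (π : A →ₗ[R] B) (b (Fin.natAdd s i) : A) = (bQ i : B) from hbQ,
      TensorProduct.zero_tmul, Finset.sum_const_zero, zero_add] at h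
    have hinj := Module.Flat.rTensor_preserves_injective_linearMap (M := B) (LinearMap.range p).subtype
      (LinearMap.range p).injective_subtype
    have h' : ∑ i, bQ i ⊗ₜ[R] π (c (Fin.natAdd s i) (Fin.castAdd q j)) = 0 := hinj (by simpa using h)
    simpa [Finsupp.single_apply] using
      congrArg (fun t => TensorProduct.lid R B (LinearMap.rTensor B (bQ.coord i) t)) h'
  let a₁ := comp s c
  let κ := Set.powersetCard (Fin (s + q)) s ⊕ Fin (s + q)
  let a₀ : Matrix κ κ A := Matrix.fromBlocks a₁ 0 0 c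
  let d := Fintype.card κ
  have hd : 0 < d := Fintype.card_pos_iff.2 ⟨Sum.inl (first s q)⟩
  let σ : Fin d ≃ κ := (Equiv.swap ⟨0, hd⟩ ((Fintype.equivFin κ) (Sum.inl (first s q)))).trans (Fintype.equivFin κ).symm
  have hσ : σ ⟨0, hd⟩ = Sum.inl (first s q) := by simp [σ]
  let a := a₀.submatrix σ σ
  obtain ⟨hm1, hm2⟩ := matrix_iff (R := R) c
  have hm1' := hm1.1 hcc
  have hm2' := hm2.1 hce'
  have ha₀1 : ∀ i j, CoalgebraStruct.comul (R := R) (a₀ i j) = ∑ l, a₀ i l ⊗ₜ[R] a₀ l j := by
    refine (matrix_iff (R := R) a₀).1.2 ?_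
    simp only [a₀, κ]
    simp only [Matrix.fromBlocks_map, Matrix.map_zero _ (map_zero _), Matrix.fromBlocks_multiply,
      Matrix.mul_zero, Matrix.zero_mul, add_zero, zero_add, a₁]
    rw [← comp_map, ← comp_map, ← comp_map, ← comp_mul, hm1']
  have ha₀2 : ∀ i j, CoalgebraStruct.counit (R := R) (a₀ i j) = if i = j then 1 else 0 := by
    refine (matrix_iff (R := R) a₀).2.2 ?_
    simp only [a₀, κ]
    simp only [Matrix.fromBlocks_map, Matrix.map_zero _ (map_zero _), a₁]
    rw [← comp_map, hm2', comp_one, Matrix.fromBlocks_one]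
  have ha1 : ∀ i j, CoalgebraStruct.comul (R := R) (a i j) = ∑ l, a i l ⊗ₜ[R] a l j := fun i j => by
    simp only [a, Matrix.submatrix_apply, ha₀1]
    exact (Equiv.sum_comp σ fun l => a₀ (σ i) l ⊗ₜ[R] a₀ l (σ j)).symm
  have ha2 : ∀ i j, CoalgebraStruct.counit (R := R) (a i j) = if i = j then 1 else 0 := fun i j => by
    simp only [a, Matrix.submatrix_apply, ha₀2, σ.injective.eq_iff]
  obtain ⟨u, hu⟩ := isUnit_det_of_corep a ha1 ha2
  refine ⟨d, hd, a, ha1, ha2, ⟨(u⁻¹ : Aˣ), by simp [← hu], ?_⟩, le_antisymm ?_ ?_⟩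
  · refine eq_top_iff.2 (hgen ▸ Algebra.adjoin_le fun x hx => ?_)
    let S := Algebra.adjoin R (Set.range (fun p : Fin d × Fin d => a p.1 p.2) ∪ {((u⁻¹ : Aˣ) : A)})
    have hcS : ∀ i j, c i j ∈ S := fun i j => Algebra.subset_adjoin (Or.inl
      ⟨(σ.symm (Sum.inr i), σ.symm (Sum.inr j)), by simp [a, a₀]⟩)
    have hWS : ∀ w : W, (w : A) ∈ S := fun w => by
      rw [← b.sum_repr w, AddSubmonoidClass.coe_finsetSum]
      refine sum_mem fun j _ => S.smul_mem ?_ _
      rw [hw j]
      exact sum_mem fun i _ => S.smul_mem (hcS i j) _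
    exact hWS ⟨x, hsW (by simp [hx])⟩
  · -- the kernel lies in the ideal
    let J := Ideal.span (Set.range (fun i : {i : Fin d // i ≠ ⟨0, hd⟩} => a i.1 ⟨0, hd⟩))
    have hJ : ∀ S, S ≠ first s q → a₁ S (first s q) ∈ J := fun S hS => Ideal.subset_span
      ⟨⟨σ.symm (Sum.inl S), fun h => hS (by rw [Equiv.symm_apply_eq, hσ] at h; exact Sum.inl.inj h)⟩, by
        simp [a, a₀, hσ]⟩
    have hcJ : ∀ i j, c (Fin.natAdd s i) (Fin.castAdd q j) ∈ J := fun i j => by
      rw [← Ideal.Quotient.eq_zero_iff_mem]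
      refine lower_eq_zero (c.map (Ideal.Quotient.mk J)) ?_ (fun S hS => ?_) i j
      · rw [comp_map]
        refine (RingHom.map_det (Ideal.Quotient.mk J) (comp s c)).symm ▸ ?_
        refine (isUnit_det_of_corep (R := R) (comp s c) ?_ ?_).map (Ideal.Quotient.mk J)
        · refine (matrix_iff (R := R) (comp s c)).1.2 ?_
          rw [← comp_map, ← comp_map, ← comp_map, ← comp_mul, hm1']
        · refine (matrix_iff (R := R) (comp s c)).2.2 ?_
          rw [← comp_map, hm2', comp_one]
      · rw [comp_map, Matrix.map_apply, Ideal.Quotient.eq_zero_iff_mem]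
        exact hJ S hS
    have hLJ : ∀ w : W, π (w : A) = 0 → (w : A) ∈ J := fun w hw' => by
      have hwL : w ∈ L := hw'
      rw [show w = (⟨w, hwL⟩ : L).1 from rfl, ← bL.sum_repr ⟨w, hwL⟩, AddSubmonoidClass.coe_finsetSum,
        AddSubmonoidClass.coe_finsetSum]
      refine sum_mem fun j _ => ?_
      show (bL.repr ⟨w, hwL⟩) j • ((bL j : W) : A) ∈ J
      refine Submodule.smul_of_tower_mem J _ ?_
      rw [← hbL, hw, Fin.sum_univ_add]
      refine add_mem (sum_mem fun i _ => ?_) (sum_mem fun i _ => Submodule.smul_of_tower_mem J _ (hcJ i j))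
      rw [hker0 _ (hπL i), zero_smul]
      exact zero_mem _
    rw [← htI]
    refine Ideal.span_le.2 fun x hx => hLJ ⟨x, hsW (by simp [hx])⟩ ?_
    exact htI.le (Ideal.subset_span hx)
  · rw [Ideal.span_le]
    rintro _ ⟨⟨i, hi⟩, rfl⟩
    show π (a i ⟨0, hd⟩) = 0
    simp only [a, Matrix.submatrix_apply, hσ]
    rcases h : σ i with S | i'
    · have hS : S ≠ first s q := fun e => hi (σ.injective (by rw [h, e, hσ]))
      obtain ⟨l, hl⟩ : ∃ l, ∃ m, emb s S l = Fin.natAdd s m := by
        by_contra hc'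
        push Not at hc'
        refine hS (Subtype.ext (Finset.eq_of_subset_of_card_le (fun x hx => ?_) (by rw [(first s q).2, S.2])))
        obtain ⟨l, rfl⟩ := (Set.powersetCard.mem_range_ofFinEmbEquiv_symm_iff_mem S x).2 hx
        refine (Set.powersetCard.mem_range_ofFinEmbEquiv_symm_iff_mem (first s q) _).1 ?_
        refine Fin.addCases (motive := fun y => emb s S l = y → emb s S l ∈ Set.range (emb s (first s q)))
          (fun j e => ⟨j, by rw [emb_first, e]⟩) (fun m e => absurd e (hc' l m)) (emb s S l) rfl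
      obtain ⟨m, hm⟩ := hl
      show π (comp s c S (first s q)) = 0
      rw [comp_apply, show π _ = (π : A →ₐ[R] B).toRingHom _ from rfl, RingHom.map_det]
      refine Matrix.det_eq_zero_of_row_eq_zero l fun j => ?_
      simp [hm, emb_first, hin]
    · simp [a₀]

end Groth.Agent.H8Props.LineStab
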